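import Mathlib
import Cfsg.Agent.H925.OrthBasic

/-!
# S3499, row Om-C3, extension fields of prime degree at least five: quadratic forms on the field `L` (helper893)

`L / F` finite fields, `[L : F] = r` prime, `r ≥ 5`; `q` a quadratic form on `L` with polar form `φ (k l)`, `q 1 ≠ 0`.
`exists_sep`: a vector outside a subspace of dimension at most two with the same value of `q`.
`exists_pair`: for `T : L → L` linear with eigenspaces of dimension at most one there are independent `w₁, w₂` with
`q w₁ = q w₂ ≠ 0` whose span is not `T`-invariant.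
-/

set_option autoImplicit false
set_option linter.unusedSectionVars false

namespace Cfsg.Agent.H893.EP

open QuadraticMap Module
open Cfsg.Agent.LieClassical.OrthCore Cfsg.Agent.LieClassical.OrthTrans Cfsg.Agent.LieClassical.OrthFinite

theorem finrank_single_le {F V : Type*} [Field F] [AddCommGroup V] [Module F V] (v : V) :
    finrank F (Submodule.span F {v}) ≤ 1 := by
  classical
  have h := finrank_span_finset_le_card (R := F) ({v} : Finset V)
  rw [Finset.coe_singleton] at h
  exact h

section gal

variable {F L : Type*} [Field F] [Field L] [Algebra F L] [FiniteDimensional F L]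

theorem mem_or_top (hr : (finrank F L).Prime) (k : L) :
    (∃ c : F, algebraMap F L c = k) ∨ Algebra.adjoin F {k} = ⊤ := by
  have := Subalgebra.isSimpleOrder_of_finrank_prime F L hr
  rcases eq_bot_or_eq_top (Algebra.adjoin F ({k} : Set L)) with h | h
  · left
    have h1 : k ∈ Algebra.adjoin F ({k} : Set L) := Algebra.subset_adjoin rfl
    rw [h, Algebra.mem_bot] at h1
    exact h1
  · exact Or.inr h

/-- a proper nonzero subspace is stable under scalars of `F` only -/
theorem mem_of_stab (hr : (finrank F L).Prime) {W : Submodule F L} (h0 : W ≠ ⊥) (h1 : W ≠ ⊤) {k : L}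
    (hk : ∀ w ∈ W, k * w ∈ W) : ∃ c : F, algebraMap F L c = k := by
  rcases mem_or_top hr k with h | h
  · exact h
  exfalso
  apply h1
  have h2 : ∀ l : L, ∀ w ∈ W, l * w ∈ W := by
    intro l
    have hl : l ∈ Algebra.adjoin F ({k} : Set L) := by rw [h]; trivial
    induction hl using Algebra.adjoin_induction with
    | mem x hx => rw [Set.mem_singleton_iff.1 hx]; exact hk
    | algebraMap c => intro w hw; rw [← Algebra.smul_def]; exact W.smul_mem c hw
    | add a b _ _ ha hb => intro w hw; rw [add_mul]; exact W.add_mem (ha w hw) (hb w hw)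
    | mul a b _ _ ha hb => intro w hw; rw [mul_assoc]; exact ha _ (hb w hw)
  obtain ⟨w, hw, hw0⟩ := (Submodule.ne_bot_iff W).1 h0
  rw [eq_top_iff]
  intro l _
  have := h2 (l * w⁻¹) w hw
  rwa [mul_assoc, inv_mul_cancel₀ hw0, mul_one] at this

/-- an automorphism fixing an element outside `F` is trivial -/
theorem mem_of_fixed (hr : (finrank F L).Prime) {τ : L ≃ₐ[F] L} (hτ : τ ≠ 1) {k : L} (hk : τ k = k) :
    ∃ c : F, algebraMap F L c = k := by
  rcases mem_or_top hr k with h | h
  · exact h
  exfalso
  apply hτ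
  have h1 : (τ : L →ₐ[F] L) = AlgHom.id F L := by
    apply AlgHom.ext_of_adjoin_eq_top h
    intro x hx
    rw [Set.mem_singleton_iff.1 hx]
    exact hk
  ext x
  exact DFunLike.congr_fun h1 x

theorem exists_pow_eq [Finite L] (hr : (finrank F L).Prime) {τ : L ≃ₐ[F] L} (hτ : τ ≠ 1) (τ' : L ≃ₐ[F] L) :
    ∃ n : ℕ, τ ^ n = τ' := by
  have := Fact.mk hr
  have h1 : Nat.card (L ≃ₐ[F] L) = finrank F L := IsGalois.card_aut_eq_finrank F L
  exact mem_powers_of_prime_card h1 hτ

end gal

section form

variable {F L : Type*} [Field F] [Finite F] [Field L] [Algebra F L] [FiniteDimensional F L]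
  {q : QuadraticForm F L} {φ : L →ₗ[F] F}

theorem phi_zero (hφ : ∀ k l, polar q k l = φ (k * l)) (h2 : (2 : F) = 0) (l : L) : φ l = 0 := by
  have hfL : Finite L := Module.finite_of_finite F
  have h2L : (2 : L) = 0 := by
    have := congrArg (algebraMap F L) h2
    rwa [map_ofNat, map_zero] at this
  have hchar : ringChar L = 2 := by
    have : ringChar L ∣ 2 := ringChar.dvd (by exact_mod_cast h2L)
    rcases (Nat.dvd_prime Nat.prime_two).1 this with h7 | h7
    · exact absurd h7 CharP.ringChar_ne_one
    · exact h7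
  obtain ⟨k, rfl⟩ := FiniteField.isSquare_of_char_two hchar l
  rw [← hφ, polar_self', h2, zero_mul]

/-- a vector outside a subspace of dimension at most two with the same value of `q` -/
theorem exists_sep (hφ : ∀ k l, polar q k l = φ (k * l)) (h5 : 5 ≤ finrank F L) {P : Submodule F L}
    (hP : finrank F P ≤ 2) {w : L} (hw : w ∈ P) (hqw : q w ≠ 0) : ∃ w', w' ∉ P ∧ q w' = q w := by
  by_cases h2 : (2 : F) = 0
  · have hz := phi_zero hφ h2
    have hadd : ∀ a b, q (a + b) = q a + q b := by
      intro a b
      rw [Q_add, hφ, hz, add_zero]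
    have h22 : ∀ c : F, c + c = 0 := fun c => by rw [← two_mul, h2, zero_mul]
    by_contra hcon
    push Not at hcon
    obtain ⟨C, hC⟩ := P.exists_isCompl
    have hinj : Function.Injective (fun c : C => q (c : L)) := by
      intro a b hab
      by_contra hne
      have hab' : q (a : L) = q (b : L) := hab
      have h3 : (a : L) - b ∈ C := C.sub_mem a.2 b.2
      have h4 : (a : L) - b ∉ P := by
        intro h
        have h6 : (a : L) - b = 0 := (Submodule.disjoint_def.1 hC.disjoint) _ h h3
        exact hne (Subtype.ext (sub_eq_zero.1 h6))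
      refine hcon (w + ((a : L) - b)) (fun h => h4 ?_) ?_
      · have := P.sub_mem h hw
        rwa [add_sub_cancel_left] at this
      · rw [hadd, sub_eq_add_neg, hadd, QuadraticMap.map_neg, hab', h22, add_zero]
    have h3 := Submodule.finrank_add_eq_of_isCompl hC
    have h4 := Nat.card_le_card_of_injective _ hinj
    rw [Module.natCard_eq_pow_finrank (K := F)] at h4
    have h6 : 2 ≤ Nat.card F := Finite.one_lt_card
    have h7 : Nat.card F ^ 3 ≤ Nat.card F ^ finrank F C := Nat.pow_le_pow_right (by omega) (by omega)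
    have h8 : Nat.card F ^ 3 = Nat.card F * (Nat.card F * Nat.card F) := by ring
    nlinarith
  · -- the vector `h`
    obtain ⟨h, hh1, hh2, hh3⟩ : ∃ h : L, φ (w * h) = 0 ∧ h ∉ P ∧ q h ≠ - q w := by
      by_contra hcon
      push Not at hcon
      let ψ : L →ₗ[F] F := φ.comp (LinearMap.mulLeft F w)
      have hψ : ∀ l, ψ l = φ (w * l) := fun _ => rfl
      have hk : 4 ≤ finrank F (LinearMap.ker ψ) := by
        have h3 := LinearMap.finrank_range_add_finrank_ker ψ
        have h4 : finrank F (LinearMap.range ψ) ≤ 1 := by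
          have := Submodule.finrank_le (LinearMap.range ψ)
          rwa [Module.finrank_self] at this
        omega
      have hex : ∀ R : Submodule F L, finrank F R ≤ 3 → ∃ h, φ (w * h) = 0 ∧ h ∉ R := by
        intro R hR
        by_contra hc
        push Not at hc
        have h3 : LinearMap.ker ψ ≤ R := fun v hv => hc v hv
        have := Submodule.finrank_mono h3
        omega
      obtain ⟨h, h3, h4⟩ := hex P (by omega)
      have hR3 : finrank F ↥(P ⊔ Submodule.span F {h}) ≤ 3 := by
        have h6 := Submodule.finrank_add_le_finrank_add_finrank P (Submodule.span F {h})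
        have h7 := finrank_single_le (F := F) h
        omega
      obtain ⟨h', h6, h7⟩ := hex _ hR3
      have hhR : h ∈ P ⊔ Submodule.span F {h} := Submodule.mem_sup_right (Submodule.mem_span_singleton_self h)
      have e1 := hcon h h3 h4
      have e2 := hcon h' h6 (fun h => h7 (Submodule.mem_sup_left h))
      have e3 := hcon (h + h') (by rw [mul_add, map_add, h3, h6, add_zero]) (fun hc => h7 (by
        have := Submodule.sub_mem _ (Submodule.mem_sup_left (T := Submodule.span F {h}) hc) hhR
        rwa [add_sub_cancel_left] at this))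
      have e4 := hcon (h - h') (by rw [mul_sub, map_sub, h3, h6, sub_zero]) (fun hc => h7 (by
        have := Submodule.sub_mem _ hhR (Submodule.mem_sup_left (T := Submodule.span F {h}) hc)
        rwa [sub_sub_cancel] at this))
      rw [Q_add, e1, e2] at e3
      rw [sub_eq_add_neg, Q_add, QuadraticMap.map_neg, e1, e2, polar_neg_right] at e4
      have h8 : 2 * q w = 0 := by linear_combination - e3 - e4
      rcases mul_eq_zero.1 h8 with h9 | h9
      · exact h2 h9
      · exact hqw h9
    set u := w + h with hu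
    have hqu : q u = q w + q h := by rw [hu, Q_add, hφ, hh1, add_zero]
    have hqu0 : q u ≠ 0 := by
      rw [hqu]
      intro h0
      exact hh3 (by linear_combination h0)
    have hpu : polar q w u = 2 * q w := by
      rw [hu, polar_add_right, polar_self', hφ, hh1, add_zero]
    have huP : u ∉ P := by
      intro h0
      apply hh2
      have := P.sub_mem h0 hw
      rwa [hu, add_sub_cancel_left] at this
    set t := 2 * q w * (q u)⁻¹ with ht
    have ht0 : t ≠ 0 := mul_ne_zero (mul_ne_zero h2 hqw) (inv_ne_zero hqu0)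
    refine ⟨w - t • u, fun h0 => huP ?_, ?_⟩
    · have h3 := P.sub_mem hw h0
      rw [sub_sub_cancel] at h3
      have h4 := P.smul_mem t⁻¹ h3
      rwa [smul_smul, inv_mul_cancel₀ ht0, one_smul] at h4
    · rw [sub_eq_add_neg, Q_add, QuadraticMap.map_neg, QuadraticMap.map_smul, polar_neg_right, polar_smul_right, hpu, ht]
      simp only [smul_eq_mul]
      field_simp
      ring

/-- a pair of vectors with the same value of `q` and span not invariant under `T` -/
theorem exists_pair (hφ : ∀ k l, polar q k l = φ (k * l)) (h5 : 5 ≤ finrank F L) (hq : q 1 ≠ 0) (T : L →ₗ[F] L)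
    (hT : ∀ (a b : L) (μ : F), a ≠ 0 → T a = μ • a → T b = μ • b → ∃ c : F, b = c • a) :
    ∃ w₁ w₂ : L, q w₁ ≠ 0 ∧ q w₂ = q w₁ ∧ (∀ c : F, w₂ ≠ c • w₁) ∧
      ¬ (T w₁ ∈ Submodule.span F {w₁, w₂} ∧ T w₂ ∈ Submodule.span F {w₁, w₂}) := by
  by_contra hcon
  push Not at hcon
  have hne : ∀ w : L, q w ≠ 0 → w ≠ 0 := by
    rintro w hw rfl
    exact hw (QuadraticMap.map_zero q)
  -- three vectors
  have key : ∀ w : L, q w ≠ 0 → ∃ w2 w3 : L, q w2 = q w ∧ q w3 = q w ∧ (∀ c : F, w2 ≠ c • w) ∧
      (∀ a b : F, w3 ≠ a • w + b • w2) := by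
    intro w hw
    obtain ⟨w2, h1, h2⟩ := exists_sep (P := Submodule.span F {w}) hφ h5
      ((finrank_single_le (F := F) w).trans (by norm_num)) (Submodule.mem_span_singleton_self w) hw
    have h3 : finrank F (Submodule.span F ({w, w2} : Set L)) ≤ 2 := by
      classical
      have h := finrank_span_finset_le_card (R := F) ({w, w2} : Finset L)
      rw [Finset.coe_pair] at h
      exact h.trans Finset.card_le_two
    obtain ⟨w3, h4, h6⟩ := exists_sep (P := Submodule.span F {w, w2}) hφ h5 h3
      (Submodule.subset_span (by simp)) hw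
    refine ⟨w2, w3, h2, h6, ?_, ?_⟩
    · rintro c rfl
      exact h1 (Submodule.smul_mem _ _ (Submodule.mem_span_singleton_self w))
    · rintro a b rfl
      exact h4 (Submodule.mem_span_pair.2 ⟨a, b, rfl⟩)
  have eig : ∀ w : L, q w ≠ 0 → ∃ γ : F, T w = γ • w := by
    intro w hw
    obtain ⟨w2, w3, e2, e3, h2, h3⟩ := key w hw
    have h3' : ∀ c : F, w3 ≠ c • w := fun c => by
      have := h3 c 0
      rwa [zero_smul, add_zero] at this
    obtain ⟨h4, -⟩ := hcon w w2 hw e2 h2
    obtain ⟨h6, -⟩ := hcon w w3 hw e3 h3'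
    obtain ⟨a, b, h7⟩ := Submodule.mem_span_pair.1 h4
    obtain ⟨c, d, h8⟩ := Submodule.mem_span_pair.1 h6
    by_cases hd : d = 0
    · refine ⟨c, ?_⟩
      rw [← h8, hd, zero_smul, add_zero]
    · exfalso
      apply h3 (d⁻¹ * (a - c)) (d⁻¹ * b)
      have h9 : d • w3 = (a - c) • w + b • w2 := by
        rw [sub_smul, sub_add_eq_add_sub, h7, ← h8, add_sub_cancel_left]
      rw [mul_smul, mul_smul, ← smul_add, ← h9, smul_smul, inv_mul_cancel₀ hd, one_smul]
  obtain ⟨w2, w3, e2, e3, h2, h3⟩ := key 1 hq
  have hq2 : q w2 ≠ 0 := by rw [e2]; exact hq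
  have hq3 : q w3 ≠ 0 := by rw [e3]; exact hq
  obtain ⟨γ1, g1⟩ := eig 1 hq
  obtain ⟨γ2, g2⟩ := eig w2 hq2
  obtain ⟨γ3, g3⟩ := eig w3 hq3
  have h12 : γ1 ≠ γ2 := by
    intro h
    obtain ⟨c, hc⟩ := hT 1 w2 γ1 one_ne_zero g1 (by rw [g2, h])
    exact h2 c hc
  -- a combination with distinct eigenvalues
  have comb : ∀ ε : F, ε ≠ 0 → q (1 + ε • w2) = 0 := by
    intro ε hε
    by_contra hc
    obtain ⟨γ, hγ⟩ := eig _ hc
    rw [map_add, map_smul, g1, g2] at hγ
    have h4 : (ε * (γ2 - γ)) • w2 = (γ - γ1) • (1 : L) := by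
      rw [sub_smul, mul_sub, sub_smul, mul_smul, mul_smul]
      rw [smul_add] at hγ
      rw [sub_eq_sub_iff_add_eq_add, add_comm (ε • γ2 • w2), hγ, smul_comm γ ε]
    by_cases h6 : ε * (γ2 - γ) = 0
    · have h7 : γ2 = γ := by
        rcases mul_eq_zero.1 h6 with h | h
        · exact (hε h).elim
        · exact sub_eq_zero.1 h
      rw [h6, zero_smul] at h4
      rcases smul_eq_zero.1 h4.symm with h | h
      · exact h12 (by rw [h7]; exact (sub_eq_zero.1 h).symm)
      · exact one_ne_zero h
    · apply h2 ((ε * (γ2 - γ))⁻¹ * (γ - γ1))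
      rw [mul_smul, ← h4, smul_smul, inv_mul_cancel₀ h6, one_smul]
  by_cases h2F : (2 : F) = 0
  · have hz := phi_zero hφ h2F
    have hadd : ∀ a b, q (a + b) = q a + q b := by
      intro a b
      rw [Q_add, hφ, hz, add_zero]
    have hs : q (1 + w2 + w3) ≠ 0 := by
      rw [hadd, hadd, e2, e3]
      have : q 1 + q 1 + q 1 = q 1 := by linear_combination q 1 * h2F
      rw [this]
      exact hq
    obtain ⟨γ, hγ⟩ := eig _ hs
    rw [map_add, map_add, g1, g2, g3, smul_add, smul_add] at hγ
    have h4 : (γ3 - γ) • w3 = (γ - γ1) • (1 : L) + (γ - γ2) • w2 := by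
      rw [sub_smul, sub_smul, sub_smul, sub_eq_iff_eq_add]
      have : γ3 • w3 = γ • (1 : L) + γ • w2 + γ • w3 - γ1 • (1 : L) - γ2 • w2 := by
        rw [← hγ]; abel
      rw [this]; abel
    have h6 : γ3 = γ := by
      by_contra h
      have h7 := sub_ne_zero.2 h
      apply h3 ((γ3 - γ)⁻¹ * (γ - γ1)) ((γ3 - γ)⁻¹ * (γ - γ2))
      rw [mul_smul, mul_smul, ← smul_add, ← h4, smul_smul, inv_mul_cancel₀ h7, one_smul]
    rw [h6, sub_self, zero_smul] at h4
    have h7 : γ = γ2 := by
      by_contra h
      have h8 := sub_ne_zero.2 h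
      apply h2 (-((γ - γ2)⁻¹ * (γ - γ1)))
      have h9 : (γ - γ2) • w2 = - ((γ - γ1) • (1 : L)) := by
        rw [eq_neg_iff_add_eq_zero, add_comm]; exact h4.symm
      rw [neg_smul, mul_smul, ← smul_neg, ← h9, smul_smul, inv_mul_cancel₀ h8, one_smul]
    rw [h7, sub_self, zero_smul, add_zero] at h4
    rcases smul_eq_zero.1 h4.symm with h | h
    · exact h12 (sub_eq_zero.1 h).symm
    · exact one_ne_zero h
  · have c1 := comb 1 one_ne_zero
    have c2 := comb (-1) (neg_ne_zero.2 one_ne_zero)
    rw [one_smul, Q_add, e2] at c1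
    rw [neg_smul, one_smul, Q_add, QuadraticMap.map_neg, polar_neg_right, e2] at c2
    have h4 : (2 * 2) * q 1 = 0 := by linear_combination c1 + c2
    rcases mul_eq_zero.1 h4 with h | h
    · rcases mul_eq_zero.1 h with h | h <;> exact h2F h
    · exact hq h

end form

end Cfsg.Agent.H893.EP
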