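import Cfsg.Agent.H893.EP.ExtL
import Cfsg.Agent.H199.Out.Dick

/-!
# S3499, row Om-C3, extension fields of prime degree at least five: the element `x` (helper893)

`V` an orthogonal space over `F` and a vector space over `L`, `[L : F] = r ≥ 5` prime, `dim_L V ∈ {1, 2}`, `L` self-adjoint.
`exists_x`: there is `x ∈ Ω`, not semilinear, such that every semilinear `a ∈ Ω` with `x⁻¹ a x` semilinear is a scalar.
-/

set_option autoImplicit false
set_option linter.unusedSectionVars false

namespace Cfsg.Agent.H893.EP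

open QuadraticMap Module
open Cfsg.Agent.LieClassical.OrthCore Cfsg.Agent.LieClassical.OrthTrans Cfsg.Agent.LieClassical.OrthFinite

section form

variable {F L : Type*} [Field F] [Finite F] [Field L] [Algebra F L] [FiniteDimensional F L]
  {q : QuadraticForm F L} {φ : L →ₗ[F] F}

theorem pm_one (hφ : ∀ k l, polar q k l = φ (k * l)) {k₀ : L} (hq : q k₀ ≠ 0) {ρ : L}
    (h : ∀ l, q (l * ρ) = q l) : ρ = 1 ∨ ρ = -1 := by
  by_cases h2 : (2 : F) = 0
  · left
    by_contra hρ
    have hρ' : ρ - 1 ≠ 0 := sub_ne_zero.2 hρ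
    apply hq
    have hz := phi_zero hφ h2
    set l := k₀ * (ρ - 1)⁻¹ with hl
    have e : k₀ = l * ρ + -l := by
      have : l * ρ + -l = l * (ρ - 1) := by ring
      rw [this, hl, mul_assoc, inv_mul_cancel₀ hρ', mul_one]
    rw [e, Q_add, hφ, hz, QuadraticMap.map_neg, h, add_zero, ← two_mul, h2, zero_mul]
  · have hpol : ∀ k l, polar q (k * ρ) (l * ρ) = polar q k l := by
      intro k l
      rw [polar, ← add_mul, h, h, h]
      rfl
    have h3 : ∀ m, φ (m * (ρ * ρ - 1)) = 0 := by
      intro m
      have h4 := hpol m 1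
      rw [hφ, hφ, mul_one, one_mul] at h4
      rw [mul_sub, map_sub, sub_eq_zero, mul_one, ← mul_assoc]
      exact h4
    have h4 : ρ * ρ - 1 = 0 := by
      by_contra hne
      apply hq
      have h5 : polar q k₀ k₀ = 0 := by
        rw [hφ]
        have := h3 (k₀ * k₀ * (ρ * ρ - 1)⁻¹)
        rwa [mul_assoc, inv_mul_cancel₀ hne, mul_one] at this
      rw [polar_self'] at h5
      exact (mul_eq_zero.1 h5).resolve_left h2
    exact mul_self_eq_one_iff.1 (sub_eq_zero.1 h4)

theorem exists_w (hφ : ∀ k l, polar q k l = φ (k * l)) (hr : (finrank F L).Prime) (h5 : 5 ≤ finrank F L)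
    (hq : q 1 ≠ 0) :
    ∃ w₁ w₂ : L, q w₁ ≠ 0 ∧ q w₂ = q w₁ ∧ (∀ c : F, w₂ ≠ c • w₁) ∧
      ∀ (T : L →ₗ[F] L) (τ : L ≃ₐ[F] L) (ρ : L), τ ≠ 1 → (∀ k, T k = τ k * ρ) → (∀ k, q (T k) = q k) →
        ¬ (T w₁ ∈ Submodule.span F {w₁, w₂} ∧ T w₂ ∈ Submodule.span F {w₁, w₂}) := by
  have hfL : Finite L := Module.finite_of_finite F
  by_cases hB : ∃ (T : L →ₗ[F] L) (τ : L ≃ₐ[F] L) (ρ : L), τ ≠ 1 ∧ (∀ k, T k = τ k * ρ) ∧ ∀ k, q (T k) = q k
  · obtain ⟨T1, τ1, ρ1, hτ1, hT1, hq1⟩ := hB
    have hρ1 : ρ1 ≠ 0 := by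
      rintro rfl
      have h1 := hq1 1
      rw [hT1, mul_zero, QuadraticMap.map_zero] at h1
      exact hq h1.symm
    obtain ⟨w1, w2, h1, h2, h3, h4⟩ := exists_pair hφ h5 hq T1 (by
      intro a b μ ha hTa hTb
      have hτa : τ1 a ≠ 0 := fun h => ha (by
        have := congrArg τ1.symm h
        rwa [AlgEquiv.symm_apply_apply, map_zero] at this)
      have h6 : τ1 b * a = τ1 a * b := by
        have e1 : τ1 b * ρ1 * a = τ1 a * ρ1 * b := by
          rw [← hT1, ← hT1, hTa, hTb, smul_mul_assoc, smul_mul_assoc, mul_comm a b]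
        have e2 : ρ1 * (τ1 b * a - τ1 a * b) = 0 := by linear_combination e1
        exact sub_eq_zero.1 ((mul_eq_zero.1 e2).resolve_left hρ1)
      obtain ⟨c, hc⟩ := mem_of_fixed hr hτ1 (k := b * a⁻¹) (by
        rw [map_mul, map_inv₀]
        field_simp
        linear_combination h6)
      refine ⟨c, ?_⟩
      rw [Algebra.smul_def, hc, mul_assoc, inv_mul_cancel₀ ha, mul_one])
    refine ⟨w1, w2, h1, h2, h3, fun T τ ρ hτ hT hqT hinv => h4 ?_⟩
    obtain ⟨n, hn⟩ := exists_pow_eq hr hτ τ1
    have hTn : ∀ m : ℕ, ∃ ρ' : L, ∀ k, (T ^ m) k = (τ ^ m) k * ρ' := by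
      intro m
      induction m with
      | zero => exact ⟨1, fun k => (mul_one k).symm⟩
      | succ m ih =>
        obtain ⟨ρ', h⟩ := ih
        refine ⟨(τ ^ m) ρ * ρ', fun k => ?_⟩
        rw [pow_succ, Module.End.mul_apply, hT, h, map_mul, mul_assoc, pow_succ]
        rfl
    have hqn : ∀ (m : ℕ) (k : L), q ((T ^ m) k) = q k := by
      intro m
      induction m with
      | zero => intro k; rfl
      | succ m ih =>
        intro k
        rw [pow_succ, Module.End.mul_apply, ih, hqT]
    have hin : ∀ w ∈ Submodule.span F {w1, w2}, T w ∈ Submodule.span F {w1, w2} := by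
      intro w hw
      obtain ⟨a, b, rfl⟩ := Submodule.mem_span_pair.1 hw
      rw [map_add, map_smul, map_smul]
      exact Submodule.add_mem _ (Submodule.smul_mem _ _ hinv.1) (Submodule.smul_mem _ _ hinv.2)
    have hinn : ∀ (m : ℕ), ∀ w ∈ Submodule.span F {w1, w2}, (T ^ m) w ∈ Submodule.span F {w1, w2} := by
      intro m
      induction m with
      | zero => intro w hw; exact hw
      | succ m ih =>
        intro w hw
        rw [pow_succ, Module.End.mul_apply]
        exact ih _ (hin w hw)
    obtain ⟨ρ', hρ'⟩ := hTn n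
    rw [hn] at hρ'
    have h6 : ρ' * ρ1⁻¹ = 1 ∨ ρ' * ρ1⁻¹ = -1 := by
      refine pm_one hφ hq fun l => ?_
      have e1 := hqn n (τ1.symm (l * ρ1⁻¹))
      rw [hρ', AlgEquiv.apply_symm_apply] at e1
      have e2 := hq1 (τ1.symm (l * ρ1⁻¹))
      rw [hT1, AlgEquiv.apply_symm_apply, mul_assoc, inv_mul_cancel₀ hρ1, mul_one] at e2
      rw [e2, ← e1]
      congr 1
      ring
    have h8 : ρ' = ρ1 ∨ ρ' = - ρ1 := by
      rcases h6 with h | h
      · left
        rw [mul_inv_eq_one₀ hρ1] at h
        exact h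
      · right
        rw [mul_inv_eq_iff_eq_mul₀ hρ1, neg_one_mul] at h
        exact h
    have h9 : ∀ w ∈ Submodule.span F {w1, w2}, T1 w ∈ Submodule.span F {w1, w2} := by
      intro w hw
      have h10 := hinn n w hw
      rw [hρ'] at h10
      rcases h8 with h | h
      · rw [hT1, ← h]
        exact h10
      · have : T1 w = - (τ1 w * ρ') := by rw [hT1, h, mul_neg, neg_neg]
        rw [this]
        exact Submodule.neg_mem _ h10
    exact ⟨h9 _ (Submodule.subset_span (by simp)), h9 _ (Submodule.subset_span (by simp))⟩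
  · obtain ⟨w2, h1, h2⟩ := exists_sep (P := Submodule.span F {(1 : L)}) hφ h5
      ((finrank_single_le (F := F) (1 : L)).trans (by norm_num)) (Submodule.mem_span_singleton_self 1) hq
    refine ⟨1, w2, hq, h2, ?_, fun T τ ρ hτ hT hqT _ => hB ⟨T, τ, ρ, hτ, hT, hqT⟩⟩
    rintro c rfl
    exact h1 (Submodule.smul_mem _ _ (Submodule.mem_span_singleton_self 1))

end form

section det

variable {F V : Type*} [Field F] [AddCommGroup V] [Module F V] {Q : QuadraticForm F V}

theorem det_E (hG : Good Q) {a : V ≃ₗ[F] V} (ha : a ∈ E Q) : LinearMap.det (a : V →ₗ[F] V) = 1 := by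
  rw [← hG.commutator_eq_E] at ha
  have h1 : a ∈ commutator (V ≃ₗ[F] V) := (Subgroup.commutator_mono le_top le_top : ⁅O Q, O Q⁆ ≤ ⁅⊤, ⊤⁆) ha
  have h2 := Abelianization.commutator_subset_ker (LinearEquiv.det (R := F) (M := V)) h1
  rw [MonoidHom.mem_ker] at h2
  have h3 := congrArg Units.val h2
  rwa [LinearEquiv.coe_det, Units.val_one] at h3

open Cfsg.Agent.H375.Odd Cfsg.Agent.H199.Out in
theorem even_E [FiniteDimensional F V] (hG : Good Q) (h2 : (2 : F) = 0) {a : V ≃ₗ[F] V} (ha : a ∈ E Q) :
    Even (finrank F (bW a)) := by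
  have hchar : ringChar F = 2 := by
    have : ringChar F ∣ 2 := ringChar.dvd (by exact_mod_cast h2)
    rcases (Nat.dvd_prime Nat.prime_two).1 this with h7 | h7
    · exact absurd h7 CharP.ringChar_ne_one
    · exact h7
  have : CharP F 2 := ringChar.of_eq hchar
  have hβ : Alt (polarBilin Q) := ⟨fun v => by rw [polarBilin_apply_apply, polar_self', h2, zero_mul], hG.nondeg⟩
  have hQF : QF (⇑Q) (polarBilin Q) := ⟨fun u v => Q_add u v, fun c v => by
    rw [QuadraticMap.map_smul, smul_eq_mul, pow_two]⟩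
  rw [← hG.commutator_eq_E] at ha
  have hle : ⁅O Q, O Q⁆ ≤ OM hβ hQF := by
    rw [Subgroup.commutator_le]
    intro f hf g hg
    have hf' : f ∈ OQ (⇑Q) := hf
    have hg' : g ∈ OQ (⇑Q) := hg
    rw [commutatorElement_def]
    by_cases h3 : f ∈ OM hβ hQF
    · have := conj_mem_OM hβ hQF ((OM hβ hQF).inv_mem h3) hg'
      have e : f * g * f⁻¹ * g⁻¹ = f * (g * f⁻¹ * g⁻¹) := by group
      rw [e]
      exact (OM hβ hQF).mul_mem h3 this
    · by_cases h4 : g ∈ OM hβ hQF
      · exact (OM hβ hQF).mul_mem (conj_mem_OM hβ hQF h4 hf') ((OM hβ hQF).inv_mem h4)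
      · have h5 := mul_mem_OM hβ hQF hf' hg' h3 h4
        have h6 := mul_mem_OM hβ hQF ((OQ (⇑Q)).inv_mem hf') ((OQ (⇑Q)).inv_mem hg')
          (fun h => h3 (by simpa using (OM hβ hQF).inv_mem h)) (fun h => h4 (by simpa using (OM hβ hQF).inv_mem h))
        have e : f * g * f⁻¹ * g⁻¹ = (f * g) * (f⁻¹ * g⁻¹) := by group
        rw [e]
        exact (OM hβ hQF).mul_mem h5 h6
  exact (hle ha).2

end det

section geo

variable {F L V : Type*} [Field F] [Field L] [Algebra F L] [AddCommGroup V] [Module F V] [Module L V]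
  [IsScalarTower F L V]

/-- `k ↦ k v` -/
def mvv (F : Type*) {L V : Type*} [Field F] [Field L] [Algebra F L] [AddCommGroup V] [Module F V] [Module L V]
    [IsScalarTower F L V] (v : V) : L →ₗ[F] V where
  toFun k := k • v
  map_add' a b := add_smul a b v
  map_smul' c k := smul_assoc c k v

theorem mvv_apply (v : V) (k : L) : mvv F v k = k • v := rfl

/-- `v ↦ k v` -/
def ml (F : Type*) {L : Type*} (V : Type*) [Field F] [Field L] [Algebra F L] [AddCommGroup V] [Module F V] [Module L V]
    [IsScalarTower F L V] (k : L) : V →ₗ[F] V where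
  toFun v := k • v
  map_add' a b := smul_add k a b
  map_smul' c v := smul_algebra_smul_comm c k v

/-- semilinear maps -/
def SL (a : V ≃ₗ[F] V) (τ : L ≃ₐ[F] L) : Prop := ∀ (k : L) (v : V), a (k • v) = τ k • a v

theorem line_le [FiniteDimensional F L] [FiniteDimensional F V] {v : V} (hv : v ≠ 0) {D : Submodule F V}
    (hD : ∀ k : L, k • v ∈ D) : finrank F L ≤ finrank F D := by
  let f : L →ₗ[F] D := (mvv F v).codRestrict D hD
  apply LinearMap.finrank_le_finrank_of_injective (f := f)
  rw [injective_iff_map_eq_zero]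
  intro k hk
  have h1 : k • v = 0 := congrArg Subtype.val hk
  exact (smul_eq_zero.1 h1).resolve_right hv

theorem mvv_inj {v : V} (hv : v ≠ 0) : Function.Injective (mvv F v : L →ₗ[F] V) := by
  rw [injective_iff_map_eq_zero]
  intro k hk
  exact (smul_eq_zero.1 hk).resolve_right hv

/-- a semilinear map of small rank is trivial -/
theorem eq_one_of_rank [FiniteDimensional F L] [FiniteDimensional F V] (hr : (finrank F L).Prime)
    (h5 : 5 ≤ finrank F L) (hn : finrank F V = finrank F L ∨ finrank F V = 2 * finrank F L)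
    (h7 : 7 ≤ finrank F V) {a : V ≃ₗ[F] V} {τ : L ≃ₐ[F] L} (ha : SL a τ) {D : Submodule F V}
    (hD : finrank F D ≤ 4) (haD : ∀ v, a v - v ∈ D) : ∀ v, a v = v := by
  by_cases hτ : τ = 1
  · subst hτ
    intro v
    by_contra hv
    have h1 := line_le (F := F) (L := L) (D := D) (sub_ne_zero.2 hv) (by
      intro k
      have h2 := haD (k • v)
      rw [ha] at h2
      rw [smul_sub]
      exact h2)
    omega
  exfalso
  rcases hn with hn | hn
  · -- one-dimensional
    let f : V →ₗ[F] V := (a : V →ₗ[F] V) - LinearMap.id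
    have hf : ∀ v, f v = a v - v := fun _ => rfl
    have hrange : LinearMap.range f ≤ D := by
      rintro _ ⟨v, rfl⟩
      exact haD v
    have h1 := LinearMap.finrank_range_add_finrank_ker f
    have h2 := Submodule.finrank_mono hrange
    have h3 : LinearMap.ker f ≠ ⊥ := by
      intro h
      rw [h, finrank_bot] at h1
      omega
    obtain ⟨u, hu, hu0⟩ := (Submodule.ne_bot_iff _).1 h3
    have h4 : ¬ LinearMap.ker f ≤ Submodule.span F {u} := by
      intro h
      have h6 := Submodule.finrank_mono h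
      have h8 := finrank_single_le (F := F) u
      omega
    obtain ⟨v, hv, hvu⟩ := Set.not_subset.1 h4
    have hsurj : Function.Surjective (mvv F u : L →ₗ[F] V) :=
      (LinearMap.injective_iff_surjective_of_finrank_eq_finrank hn.symm).1 (mvv_inj hu0)
    obtain ⟨k, hk⟩ := hsurj v
    rw [mvv_apply] at hk
    have hau : a u = u := sub_eq_zero.1 hu
    have hav : a v = v := sub_eq_zero.1 hv
    rw [← hk, ha, hau, ← sub_eq_zero, ← sub_smul] at hav
    obtain ⟨c, hc⟩ := mem_of_fixed hr hτ (sub_eq_zero.1 ((smul_eq_zero.1 hav).resolve_right hu0))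
    apply hvu
    rw [← hk, ← hc, algebraMap_smul]
    exact Submodule.smul_mem _ _ (Submodule.mem_span_singleton_self u)
  · obtain ⟨k, hk⟩ : ∃ k, τ k ≠ k := by
      by_contra hcon
      push Not at hcon
      exact hτ (AlgEquiv.ext hcon)
    have hm := sub_ne_zero.2 hk
    have htop : (⊤ : Submodule F V) ≤ D ⊔ D.map (ml F V k) := by
      intro w _
      set v := a.symm ((τ k - k)⁻¹ • w) with hv
      have h1 : a v = (τ k - k)⁻¹ • w := by rw [hv, LinearEquiv.apply_symm_apply]
      have h2 : w = (a (k • v) - k • v) - k • (a v - v) := by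
        rw [ha, smul_sub, sub_sub_sub_cancel_right, ← sub_smul, h1, smul_smul, mul_inv_cancel₀ hm, one_smul]
      rw [h2]
      exact Submodule.sub_mem _ (Submodule.mem_sup_left (haD _)) (Submodule.mem_sup_right ⟨_, haD v, rfl⟩)
    have h1 := Submodule.finrank_mono htop
    rw [finrank_top] at h1
    have h2 := Submodule.finrank_add_le_finrank_add_finrank D (D.map (ml F V k))
    have h3 := Submodule.finrank_map_le (ml F V k) D
    omega

variable {Q : QuadraticForm F V}

/-- the form on the line `L e` -/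
def qe (L : Type*) [Field L] [Algebra F L] [Module L V] [IsScalarTower F L V] (Q : QuadraticForm F V) (e : V) :
    QuadraticForm F L := Q.comp (mvv F e)

theorem qe_apply (e : V) (k : L) : qe L Q e k = Q (k • e) := rfl

def phe (L : Type*) [Field L] [Algebra F L] [Module L V] [IsScalarTower F L V] (Q : QuadraticForm F V) (e : V) :
    L →ₗ[F] F := (polarBilin Q e).comp (mvv F e)

theorem phe_apply (e : V) (k : L) : phe L Q e k = polar Q e (k • e) := rfl

theorem qe_polar (hsa : ∀ (k : L) (v w : V), polar Q (k • v) w = polar Q v (k • w)) (e : V) (k l : L) :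
    polar (qe L Q e) k l = phe L Q e (k * l) := by
  rw [phe_apply, mul_smul, ← hsa, polar, qe_apply, qe_apply, qe_apply, add_smul]
  rfl

theorem phe_inj (hsa : ∀ (k : L) (v w : V), polar Q (k • v) w = polar Q v (k • w)) (h2 : (2 : F) ≠ 0) {e : V}
    (he : Q e ≠ 0) {k : L} (hk : ∀ m : L, polar Q (k • e) (m • e) = 0) : k = 0 := by
  by_contra h0
  have h1 := hk (k⁻¹)
  rw [hsa, smul_smul, mul_inv_cancel₀ h0, one_smul, polar_self'] at h1
  rcases mul_eq_zero.1 h1 with h | h
  · exact h2 h
  · exact he h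

/-- an `L`-linear element of `Ω` which is `± 1` on the line `L e` is a scalar -/
theorem parity [Finite F] [FiniteDimensional F L] [FiniteDimensional F V] (hG : Good Q) (hr : (finrank F L).Prime)
    (h5 : 5 ≤ finrank F L) (hn : finrank F V = 2 * finrank F L)
    (hsa : ∀ (k : L) (v w : V), polar Q (k • v) w = polar Q v (k • w)) {e : V} (he : Q e ≠ 0)
    {a : V ≃ₗ[F] V} (haE : a ∈ E Q) (ha : ∀ (k : L) (v : V), a (k • v) = k • a v) {c : F} (hc : c = 1 ∨ c = -1)
    (hae : a e = c • e) (v : V) : a v = c • v := by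
  have hodd : Odd (finrank F L) := hr.odd_of_ne_two (by omega)
  have haO : ∀ v, Q (a v) = Q v := E_le_O haE
  have hc2 : c * c = 1 := by rcases hc with rfl | rfl <;> norm_num
  have hae' : ∀ k : L, a (k • e) = c • k • e := by
    intro k
    rw [ha, hae, smul_algebra_smul_comm]
  by_cases h2 : (2 : F) = 0
  · -- characteristic two
    have hc1 : c = 1 := by
      rcases hc with h | h
      · exact h
      · rw [h]
        linear_combination - h2
    subst hc1
    simp only [one_smul] at hae' ⊢
    have hev := even_E hG h2 haE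
    by_contra hne
    let f : V →ₗ[F] V := (a : V →ₗ[F] V) - LinearMap.id
    have hf : ∀ v, f v = a v - v := fun _ => rfl
    have hfr : Cfsg.Agent.H375.Odd.bW a = LinearMap.range f := rfl
    rw [hfr] at hev
    have he0 : e ≠ 0 := by
      rintro rfl
      exact he (QuadraticMap.map_zero Q)
    have h1 := LinearMap.finrank_range_add_finrank_ker f
    have h3 : finrank F L ≤ finrank F (LinearMap.ker f) := line_le he0 fun k => by
      rw [LinearMap.mem_ker, hf, hae', sub_self]
    have h4 : finrank F L ≤ finrank F (LinearMap.range f) := line_le (sub_ne_zero.2 hne) fun k => by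
      refine ⟨k • v, ?_⟩
      rw [hf, ha, smul_sub]
    have h6 : finrank F (LinearMap.range f) = finrank F L := by omega
    rw [h6] at hev
    exact (Nat.not_even_iff_odd.2 hodd) hev
  · -- odd characteristic
    have hinj : ∀ z : V, z ≠ 0 → (∀ k : L, polar Q z (k • e) = 0) → ∀ w : V, ∃ k l : L, w = k • e + l • z := by
      intro z hz0 hz
      let θ : L × L →ₗ[F] V := LinearMap.coprod (mvv F e) (mvv F z)
      have hθ : ∀ k l : L, θ (k, l) = k • e + l • z := fun k l => rfl
      have hi : Function.Injective θ := by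
        rw [injective_iff_map_eq_zero]
        rintro ⟨k, l⟩ hkl
        rw [hθ] at hkl
        have hk : k = 0 := by
          apply phe_inj hsa h2 he
          intro m
          have h3 : polar Q (k • e + l • z) (m • e) = 0 := by rw [hkl, polar_zero_left]
          rw [polar_add_left, hsa l z, smul_smul, hz, add_zero] at h3
          exact h3
        rw [hk, zero_smul, zero_add] at hkl
        rw [hk, (smul_eq_zero.1 hkl).resolve_right hz0]
        rfl
      have hs : Function.Surjective θ := (LinearMap.injective_iff_surjective_of_finrank_eq_finrank (by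
        rw [Module.finrank_prod, hn, two_mul])).1 hi
      intro w
      obtain ⟨⟨k, l⟩, h⟩ := hs w
      exact ⟨k, l, by rw [← h, hθ]⟩
    -- the orthogonal line
    let Φ : V →ₗ[F] (L →ₗ[F] F) := (LinearMap.lcomp F F (mvv F e)).comp (polarBilin Q)
    have hΦ : LinearMap.ker Φ ≠ ⊥ := by
      apply LinearMap.ker_ne_bot_of_finrank_lt
      rw [Module.finrank_linearMap_self, hn]
      omega
    obtain ⟨z, hz, hz0⟩ := (Submodule.ne_bot_iff _).1 hΦ
    have hz' : ∀ k : L, polar Q z (k • e) = 0 := fun k => DFunLike.congr_fun hz k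
    obtain ⟨m, hm⟩ : ∃ m : L, Q (m • z) ≠ 0 := by
      by_contra hcon
      push Not at hcon
      obtain ⟨w, hw⟩ := hG.nondeg.exists_polar_ne hz0
      obtain ⟨k, l, rfl⟩ := hinj z hz0 hz' w
      apply hw
      rw [polar_add_right, hz', zero_add, polar, hcon l]
      have h3 := hcon 1
      have h4 := hcon (1 + l)
      rw [add_smul] at h4
      rw [one_smul] at h3 h4
      rw [h3, h4]
      ring
    set e' := m • z with he'
    have he'0 : e' ≠ 0 := by
      intro h
      rw [h] at hm
      exact hm (QuadraticMap.map_zero Q)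
    have he'p : ∀ k : L, polar Q e' (k • e) = 0 := by
      intro k
      rw [he', hsa, smul_smul, hz']
    have hall := hinj e' he'0 he'p
    obtain ⟨k, l, hkl⟩ := hall (a e')
    have hk0 : k = 0 := by
      apply phe_inj hsa h2 he
      intro n
      have h3 : polar Q (a e') (n • e) = 0 := by
        have e1 : n • e = c • a (n • e) := by rw [hae', smul_smul, hc2, one_smul]
        rw [e1, polar_smul_right]
        have e2 : polar Q (a e') (a (n • e)) = polar Q e' (n • e) := polar_map (E_le_O haE) _ _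
        rw [e2, he'p, smul_zero]
      rw [hkl, polar_add_left, hsa l e', smul_smul, he'p, add_zero] at h3
      exact h3
    rw [hk0, zero_smul, zero_add] at hkl
    have hl : l = 1 ∨ l = -1 := by
      refine pm_one (q := qe L Q e') (φ := phe L Q e') (qe_polar hsa e') (k₀ := 1) (by
        rw [qe_apply, one_smul]; exact hm) fun n => ?_
      rw [qe_apply, qe_apply, mul_smul, ← hkl, ← ha, haO]
    obtain ⟨ε, hε, hlε⟩ : ∃ ε : F, (ε = 1 ∨ ε = -1) ∧ a e' = ε • e' := by
      rcases hl with h | h
      · exact ⟨1, Or.inl rfl, by rw [hkl, h, one_smul, one_smul]⟩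
      · exact ⟨-1, Or.inr rfl, by rw [hkl, h, neg_smul, neg_smul, one_smul, one_smul]⟩
    have hae2 : ∀ n : L, a (n • e') = ε • n • e' := by
      intro n
      rw [ha, hlε, smul_algebra_smul_comm]
    by_cases hεc : ε = c
    · obtain ⟨n1, n2, rfl⟩ := hall v
      rw [map_add, hae', hae2, hεc, smul_add]
    · exfalso
      have hεc' : ε = -c := by
        rcases hε with rfl | rfl <;> rcases hc with rfl | rfl
        · exact (hεc rfl).elim
        · rw [neg_neg]
        · rfl
        · exact (hεc rfl).elim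
      -- the determinant
      let θ0 : L × L →ₗ[F] V := LinearMap.coprod (mvv F e) (mvv F e')
      have hs : Function.Surjective θ0 := fun w => by
        obtain ⟨k, l, h⟩ := hall w
        exact ⟨(k, l), h.symm⟩
      have hi : Function.Injective θ0 := (LinearMap.injective_iff_surjective_of_finrank_eq_finrank (by
        rw [Module.finrank_prod, hn, two_mul])).2 hs
      let θ : (L × L) ≃ₗ[F] V := LinearEquiv.ofBijective θ0 ⟨hi, hs⟩
      have hθ : ∀ k l : L, θ (k, l) = k • e + l • e' := fun k l => rfl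
      have h3 : (a : V →ₗ[F] V) = (θ : L × L →ₗ[F] V) ∘ₗ
          (LinearMap.prodMap (c • LinearMap.id) (ε • LinearMap.id)) ∘ₗ (θ.symm : V →ₗ[F] L × L) := by
        apply LinearMap.ext
        intro w
        obtain ⟨⟨k, l⟩, rfl⟩ := θ.surjective w
        show a (θ (k, l)) = θ ((LinearMap.prodMap (c • LinearMap.id) (ε • LinearMap.id)) (θ.symm (θ (k, l))))
        rw [LinearEquiv.symm_apply_apply, LinearMap.prodMap_apply]
        show a (θ (k, l)) = θ (c • k, ε • l)
        rw [hθ, hθ, map_add, hae', hae2, smul_assoc, smul_assoc]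
      have h4 := det_E hG haE
      rw [h3, LinearMap.det_conj, LinearMap.det_prodMap, LinearMap.det_smul, LinearMap.det_smul, LinearMap.det_id,
        mul_one, mul_one, hεc', hodd.neg_pow, mul_neg, ← mul_pow, hc2, one_pow] at h4
      apply h2
      linear_combination - h4

end geo

end Cfsg.Agent.H893.EP
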